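import Mathlib

/-!
Siegel decomposition in `Sp₄` and conjugates of a Levi element with no fixed symmetric form
(helper56).
-/

set_option autoImplicit false
set_option linter.unusedSectionVars false

namespace Cfsg.Agent.PSp4Cover56

open Matrix

variable {F : Type*} [Field F] [Finite F]

attribute [-simp] Matrix.coe_units_inv

/-- The symplectic group in dimension four. -/
abbrev Sp (F : Type*) [Field F] : Type _ := Matrix.symplecticGroup (Fin 2) F

abbrev M2 (F : Type*) [Field F] : Type _ := Matrix (Fin 2) (Fin 2) F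

theorem sp_ext {g h : Sp F} (e : (g : Matrix (Fin 2 ⊕ Fin 2) (Fin 2 ⊕ Fin 2) F) = h.1) : g = h :=
  Subtype.ext e

/-- Lower unitriangular elements. -/
def lw (R : M2 F) (hR : Rᵀ = R) : Sp F :=
  ⟨fromBlocks 1 0 R 1, SymplecticGroup.fromBlocks_mem_iff.2 ⟨by simp [hR], by simp, by simp⟩⟩

/-- Upper unitriangular elements. -/
def up (S : M2 F) (hS : Sᵀ = S) : Sp F :=
  ⟨fromBlocks 1 S 0 1, SymplecticGroup.fromBlocks_mem_iff.2 ⟨by simp, by simp [hS], by simp⟩⟩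

theorem transpose_inv_mul (A : GL (Fin 2) F) :
    (A : M2 F)ᵀ * ((A⁻¹ : GL (Fin 2) F) : M2 F)ᵀ = 1 := by
  rw [← transpose_mul, Units.inv_mul, transpose_one]

theorem inv_transpose_mul (A : GL (Fin 2) F) :
    ((A⁻¹ : GL (Fin 2) F) : M2 F)ᵀ * (A : M2 F)ᵀ = 1 := by
  rw [← transpose_mul, Units.mul_inv, transpose_one]

/-- The Levi elements. -/
def dM (A : GL (Fin 2) F) : Sp F :=
  ⟨fromBlocks (A : M2 F) 0 0 ((A⁻¹ : GL (Fin 2) F) : M2 F)ᵀ,
    SymplecticGroup.fromBlocks_mem_iff.2 ⟨by simp, by simp, by simp [transpose_inv_mul]⟩⟩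

@[simp] theorem lw_val (R : M2 F) (hR : Rᵀ = R) : (lw R hR).1 = fromBlocks 1 0 R 1 := rfl
@[simp] theorem up_val (S : M2 F) (hS : Sᵀ = S) : (up S hS).1 = fromBlocks 1 S 0 1 := rfl
@[simp] theorem dM_val (A : GL (Fin 2) F) :
    (dM A).1 = fromBlocks (A : M2 F) 0 0 ((A⁻¹ : GL (Fin 2) F) : M2 F)ᵀ := rfl

theorem dM_mul (A B : GL (Fin 2) F) : dM (A * B) = dM A * dM B := sp_ext <| by
  simp [fromBlocks_multiply, transpose_mul]

theorem dM_one : dM (1 : GL (Fin 2) F) = 1 := sp_ext <| by simp [fromBlocks_one]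

theorem dM_conj {A B : GL (Fin 2) F} (h : IsConj A B) : IsConj (dM A) (dM B) :=
  (MonoidHom.mk' (dM (F := F)) dM_mul).map_isConj h

/-- Conjugation by `J` exchanges the two unipotent radicals. -/
theorem isConj_transpose_inv (A : GL (Fin 2) F) (Ai : GL (Fin 2) F)
    (hAi : (Ai : M2 F) = ((A⁻¹ : GL (Fin 2) F) : M2 F)ᵀ) (S : M2 F) (hS : Sᵀ = S)
    (hS' : (-S)ᵀ = -S) :
    IsConj (dM A * up S hS) (dM Ai * lw (-S) hS') := by
  refine isConj_iff.2 ⟨SymplecticGroup.symJ (Fin 2) F, ?_⟩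
  rw [mul_inv_eq_iff_eq_mul]
  refine sp_ext ?_
  have h1 : ((Ai⁻¹ : GL (Fin 2) F) : M2 F)ᵀ = A := by
    have h : ((Ai⁻¹ : GL (Fin 2) F) : M2 F) = (A : M2 F)ᵀ :=
      Units.inv_eq_of_mul_eq_one_right (by rw [hAi]; exact inv_transpose_mul A)
    rw [h, transpose_transpose]
  simp [SymplecticGroup.coe_J, Matrix.J, fromBlocks_multiply, h1, hAi]

/-- No nonzero symmetric form is invariant under `A`. -/
def Reg (A : GL (Fin 2) F) : Prop :=
  ∀ X : M2 F, Xᵀ = X → (A : M2 F)ᵀ * X * A = X → X = 0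

theorem Reg.conj {A : GL (Fin 2) F} (h : Reg A) {B : GL (Fin 2) F} (hB : IsConj A B) : Reg B := by
  obtain ⟨z, rfl⟩ := isConj_iff.1 hB
  intro X hX e
  have hz : (z : M2 F)ᵀ * X * z = 0 := by
    refine h _ (by simp [transpose_mul, hX, Matrix.mul_assoc]) ?_
    have hzA : ((z * A * z⁻¹ : GL (Fin 2) F) : M2 F) * z = (z : M2 F) * A := by
      rw [← Units.val_mul, ← Units.val_mul, inv_mul_cancel_right]
    calc (A : M2 F)ᵀ * ((z : M2 F)ᵀ * X * z) * (A : M2 F)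
        = ((z : M2 F) * (A : M2 F))ᵀ * X * ((z : M2 F) * (A : M2 F)) := by simp [transpose_mul, Matrix.mul_assoc]
      _ = (z : M2 F)ᵀ * (((z * A * z⁻¹ : GL (Fin 2) F) : M2 F)ᵀ * X *
            ((z * A * z⁻¹ : GL (Fin 2) F) : M2 F)) * (z : M2 F) := by
          rw [← hzA, transpose_mul]; simp only [Matrix.mul_assoc]
      _ = _ := by rw [e]
  calc X = ((z⁻¹ : GL (Fin 2) F) : M2 F)ᵀ * ((z : M2 F)ᵀ * X * z) *
        ((z⁻¹ : GL (Fin 2) F) : M2 F) := by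
        rw [Matrix.mul_assoc, Matrix.mul_assoc _ (z : M2 F), Units.mul_inv, Matrix.mul_one,
          ← Matrix.mul_assoc, inv_transpose_mul, Matrix.one_mul]
    _ = 0 := by rw [hz]; simp

/-- Symmetric matrices. -/
abbrev Sym (F : Type*) [Field F] : Type _ := {X : M2 F // Xᵀ = X}

theorem exists_of_reg {A : GL (Fin 2) F} (hA : Reg A) {R : M2 F} (hR : Rᵀ = R) :
    ∃ X : M2 F, Xᵀ = X ∧ R = X - (A : M2 F)ᵀ * X * A := by
  let φ : Sym F → Sym F := fun X => ⟨X.1 - (A : M2 F)ᵀ * X.1 * A, by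
    simp [transpose_mul, X.2, Matrix.mul_assoc]⟩
  have hinj : Function.Injective φ := fun X Y e => by
    have e' : X.1 - (A : M2 F)ᵀ * X.1 * A = Y.1 - (A : M2 F)ᵀ * Y.1 * A := congrArg Subtype.val e
    refine Subtype.ext (sub_eq_zero.1 (hA _ (by simp [X.2, Y.2]) ?_))
    rw [Matrix.mul_sub, Matrix.sub_mul]
    linear_combination (norm := abel) -(1 : ℤ) • e'
  obtain ⟨X, hX⟩ := Finite.surjective_of_injective hinj ⟨R, hR⟩
  exact ⟨X.1, X.2, (congrArg Subtype.val hX).symm⟩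

theorem dM_lw_isConj {A : GL (Fin 2) F} (hA : Reg A) (R : M2 F) (hR : Rᵀ = R) :
    IsConj (dM A) (dM A * lw R hR) := by
  obtain ⟨X, hX, rfl⟩ := exists_of_reg hA hR
  refine isConj_iff.2 ⟨lw (-X) (by simp [hX]), ?_⟩
  rw [mul_inv_eq_iff_eq_mul]
  refine sp_ext ?_
  simp only [Submonoid.coe_mul, lw_val, dM_val, fromBlocks_multiply, Matrix.mul_zero,
    Matrix.zero_mul, add_zero, zero_add, Matrix.mul_one, Matrix.one_mul, fromBlocks_inj]
  refine ⟨trivial, trivial, ?_, trivial⟩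
  rw [Matrix.mul_sub, ← Matrix.mul_assoc, ← Matrix.mul_assoc, inv_transpose_mul, Matrix.one_mul]
  simp only [Matrix.neg_mul, Matrix.mul_neg]
  abel

theorem lw_dM_isConj {A : GL (Fin 2) F} (hA : Reg A) (R : M2 F) (hR : Rᵀ = R) :
    IsConj (dM A) (lw R hR * dM A) := by
  have hR' : ((A : M2 F)ᵀ * R * (A : M2 F))ᵀ = (A : M2 F)ᵀ * R * (A : M2 F) := by
    simp [transpose_mul, hR, Matrix.mul_assoc]
  have e : dM A * lw _ hR' = lw R hR * dM A := sp_ext <| by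
    simp only [Submonoid.coe_mul, lw_val, dM_val, fromBlocks_multiply, Matrix.mul_zero,
      Matrix.zero_mul, add_zero, zero_add, Matrix.mul_one, Matrix.one_mul]
    rw [← Matrix.mul_assoc, ← Matrix.mul_assoc, inv_transpose_mul, Matrix.one_mul]
  exact e ▸ dM_lw_isConj hA _ hR'

/-- An element with invertible upper left block has a Siegel decomposition. -/
theorem exists_siegel (g : Sp F) (A : GL (Fin 2) F) (hA : g.1.toBlocks₁₁ = A) :
    ∃ (R : M2 F) (hR : Rᵀ = R) (S : M2 F) (hS : Sᵀ = S), g = lw R hR * (dM A * up S hS) := by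
  obtain ⟨B, C, D, hg⟩ : ∃ B C D, g.1 = fromBlocks (A : M2 F) B C D :=
    ⟨_, _, _, by rw [← hA]; exact (fromBlocks_toBlocks _).symm⟩
  have hm := g.2
  rw [hg] at hm
  obtain ⟨h1, -, -⟩ := SymplecticGroup.fromBlocks_mem_iff.1 hm
  set R := C * ((A⁻¹ : GL (Fin 2) F) : M2 F) with hRdef
  have hR : Rᵀ = R := by
    calc Rᵀ = ((A⁻¹ : GL (Fin 2) F) : M2 F)ᵀ * Cᵀ * ((A : M2 F) *
          ((A⁻¹ : GL (Fin 2) F) : M2 F)) := by simp [hRdef, transpose_mul]
      _ = ((A⁻¹ : GL (Fin 2) F) : M2 F)ᵀ * (Cᵀ * A) * ((A⁻¹ : GL (Fin 2) F) : M2 F) := by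
          simp only [Matrix.mul_assoc]
      _ = R := by
          rw [← h1, ← Matrix.mul_assoc _ (A : M2 F)ᵀ, inv_transpose_mul, Matrix.one_mul]
  have hm2 : ((lw R hR)⁻¹ * g).1 = fromBlocks (A : M2 F) B 0 (D - R * B) := by
    have e : (lw R hR)⁻¹ = lw (-R) (by simp [hR]) :=
      inv_eq_of_mul_eq_one_right <| sp_ext <| by simp [fromBlocks_multiply, fromBlocks_one]
    rw [e, Submonoid.coe_mul, lw_val, hg]
    simp [fromBlocks_multiply, hRdef, Matrix.mul_assoc, neg_add_eq_sub]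
  have hm' := ((lw R hR)⁻¹ * g).2
  rw [hm2] at hm'
  obtain ⟨-, h2, h3⟩ := SymplecticGroup.fromBlocks_mem_iff.1 hm'
  rw [transpose_zero, Matrix.zero_mul, sub_zero] at h3
  have hD : D - R * B = ((A⁻¹ : GL (Fin 2) F) : M2 F)ᵀ := by
    have := congrArg (((A⁻¹ : GL (Fin 2) F) : M2 F)ᵀ * ·) h3
    simpa only [← Matrix.mul_assoc, inv_transpose_mul, Matrix.one_mul, Matrix.mul_one] using this
  have hS : (((A⁻¹ : GL (Fin 2) F) : M2 F) * B)ᵀ = ((A⁻¹ : GL (Fin 2) F) : M2 F) * B := by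
    rw [hD] at h2
    rw [transpose_mul, h2, transpose_transpose]
  refine ⟨R, hR, _, hS, ?_⟩
  rw [← mul_inv_cancel_left (lw R hR) g]
  congr 1
  refine sp_ext ?_
  rw [hm2, hD]
  simp [fromBlocks_multiply]

end Cfsg.Agent.PSp4Cover56
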