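import Cfsg.Agent.PSp4Cover56.Pairing

/-!
Every non-central element of `Sp₄(F)` is, up to sign, a product of two conjugates of a Levi
element (helper56).
-/

set_option autoImplicit false
set_option linter.unusedSectionVars false

namespace Cfsg.Agent.PSp4Cover56

open Matrix

variable {F : Type*} [Field F] [Finite F]

attribute [-simp] Matrix.coe_units_inv

/-- The symplectic form. -/
def om (u v : Fin 2 ⊕ Fin 2 → F) : F := u ⬝ᵥ (J (Fin 2) F *ᵥ v)

theorem om_eq (u v : Fin 2 ⊕ Fin 2 → F) :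
    om u v = -(u (.inl 0) * v (.inr 0)) - u (.inl 1) * v (.inr 1) + u (.inr 0) * v (.inl 0) +
      u (.inr 1) * v (.inl 1) := by
  simp [om, Matrix.J, mulVec, dotProduct, Fintype.sum_sum_type, Fin.sum_univ_two,
    Matrix.one_apply]
  ring

theorem om_gram (P : Matrix (Fin 2 ⊕ Fin 2) (Fin 2 ⊕ Fin 2) F) (i j : Fin 2 ⊕ Fin 2) :
    (Pᵀ * J (Fin 2) F * P) i j = om (fun k => P k i) (fun k => P k j) := by
  rw [Matrix.mul_assoc]; rfl

theorem om_sp (g : Sp F) (i j : Fin 2 ⊕ Fin 2) :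
    om (fun k => g.1 k i) (fun k => g.1 k j) = J (Fin 2) F i j := by
  rw [← om_gram, SymplecticGroup.mem_iff'.1 g.2]

theorem om_antisym (u v : Fin 2 ⊕ Fin 2 → F) : om u v = -om v u := by
  rw [om_eq, om_eq]; ring

theorem om_self (u : Fin 2 ⊕ Fin 2 → F) : om u u = 0 := by
  rw [om_eq]; ring

/-- A product of two conjugates of the Levi element. -/
def Cov {T N : F} (h : Good T N) (g : Sp F) : Prop :=
  ∃ u v : Sp F, g = u * dM (comp T h.hN) * u⁻¹ * (v * dM (comp T h.hN) * v⁻¹)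

variable {T N : F} {h : Good T N}

theorem Cov.conj {g : Sp F} (hc : Cov h g) (w : Sp F) : Cov h (w * g * w⁻¹) := by
  obtain ⟨u, v, rfl⟩ := hc
  exact ⟨w * u, w * v, by group⟩

theorem Cov.of_conj {g : Sp F} (w : Sp F) (hc : Cov h (w⁻¹ * g * w)) : Cov h g := by
  have := hc.conj w
  simpa [mul_assoc] using this

theorem cov_of_block {g : Sp F} {y c : GL (Fin 2) F} (hy : IsConj (comp T h.hN) y)
    (hc : IsConj (comp T h.hN) c)
    (hA : g.1.toBlocks₁₁ = (c : M2 F) * ((y⁻¹ : GL (Fin 2) F) : M2 F)) : Cov h g := by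
  obtain ⟨R, hR, S, hS, hg⟩ := exists_siegel g (c * y⁻¹) (by rw [hA, Units.val_mul])
  have hy' : (y : M2 F).trace = T ∧ (y : M2 F).det = N := by
    obtain ⟨z, rfl⟩ := isConj_iff.1 hy
    constructor
    · rw [Units.val_mul, Units.val_mul, trace_units_conj, comp_val]
      simp [trace_fin_two]
    · rw [Units.val_mul, Units.val_mul, det_units_conj, comp_val]
      simp [det_fin_two]
  let yt : GL (Fin 2) F := GeneralLinearGroup.mkOfDetNeZero (y : M2 F)ᵀ
    (by rw [det_transpose, hy'.2]; exact h.hN)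
  have hyt : IsConj (comp T h.hN) yt := isConj_comp h
    (by show (y : M2 F)ᵀ.trace = T; rw [trace_transpose, hy'.1])
    (by show (y : M2 F)ᵀ.det = N; rw [det_transpose, hy'.2])
  have hS' : (-S)ᵀ = -S := by simp [hS]
  have h2 : IsConj (dM (comp T h.hN)) (dM y⁻¹ * up S hS) := by
    refine ((dM_conj hyt).trans (dM_lw_isConj ((comp_reg h).conj hyt) (-S) hS')).trans ?_
    exact (isConj_transpose_inv y⁻¹ yt (by rw [inv_inv]; rfl) S hS hS').symm
  have h1 : IsConj (dM (comp T h.hN)) (lw R hR * dM c) :=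
    (dM_conj hc).trans (lw_dM_isConj ((comp_reg h).conj hc) R hR)
  obtain ⟨u, hu⟩ := isConj_iff.1 h1
  obtain ⟨v, hv⟩ := isConj_iff.1 h2
  refine ⟨u, v, ?_⟩
  rw [hu, hv, hg, dM_mul]
  simp only [mul_assoc]

theorem cov_lw (R : M2 F) (hR : Rᵀ = R) : Cov h (lw R hR) := by
  refine cov_of_block (IsConj.refl _) (IsConj.refl _) ?_
  rw [lw_val, toBlocks_fromBlocks₁₁, Units.mul_inv]

theorem cov_of_zero_block (h3 : 3 ≤ Nat.card F) {g : Sp F} (h0 : g.1.toBlocks₁₁ = 0) :
    Cov h g := by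
  obtain ⟨B, C, D, hg⟩ : ∃ B C D, g.1 = fromBlocks (0 : M2 F) B C D :=
    ⟨_, _, _, by rw [← h0]; exact (fromBlocks_toBlocks _).symm⟩
  have hm := g.2
  rw [hg] at hm
  obtain ⟨-, -, h3'⟩ := SymplecticGroup.fromBlocks_mem_iff.1 hm
  rw [transpose_zero, Matrix.zero_mul, zero_sub] at h3'
  have hC : C.det ≠ 0 := by
    intro e
    have := congrArg det h3'
    rw [det_neg, det_mul, det_transpose, e] at this
    simp at this
  let Cu : GL (Fin 2) F := GeneralLinearGroup.mkOfDetNeZero C hC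
  let Ku : GL (Fin 2) F := GeneralLinearGroup.mkOfDetNeZero !![0, 1; -1, 0] (by simp [det_fin_two])
  obtain ⟨y, c, hy, hc, htr⟩ := exists_pair h h3 (Cu⁻¹ * Ku)
  set S : M2 F := (c : M2 F) * ((y⁻¹ : GL (Fin 2) F) : M2 F) *
    ((Cu⁻¹ : GL (Fin 2) F) : M2 F) with hS'
  have hS : Sᵀ = S := by
    have e : (S * !![0, 1; -1, 0]).trace = 0 := by
      rw [Units.val_mul, show (Ku : M2 F) = !![0, 1; -1, 0] from rfl, ← Matrix.mul_assoc] at htr
      exact htr
    simp [trace_fin_two, Matrix.mul_apply, Fin.sum_univ_two] at e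
    have e' : S 1 0 = S 0 1 := by linear_combination e
    ext i j
    fin_cases i <;> fin_cases j <;> simp [e']
  refine Cov.of_conj (up S hS)⁻¹ (cov_of_block hy hc ?_)
  rw [inv_inv]
  have e : (up S hS)⁻¹ = up (-S) (by simp [hS]) :=
    inv_eq_of_mul_eq_one_right <| sp_ext <| by simp [fromBlocks_multiply, fromBlocks_one]
  rw [e, Submonoid.coe_mul, Submonoid.coe_mul, up_val, up_val, hg]
  simp [fromBlocks_multiply, hS']
  rw [show C = (Cu : M2 F) from rfl, Matrix.mul_assoc, Units.inv_mul, Matrix.mul_one]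

theorem cov_of_lagrangian (h3 : 3 ≤ Nat.card F) (g : Sp F) (a b : Fin 2 ⊕ Fin 2 → F)
    (hab : om a b = 0)
    (hdet : om a (g.1 *ᵥ a) * om b (g.1 *ᵥ b) - om a (g.1 *ᵥ b) * om b (g.1 *ᵥ a) ≠ 0) :
    Cov h g := by
  set E : Matrix (Fin 2 ⊕ Fin 2) (Fin 2) F := Matrix.of fun i j => ![a i, b i] j with hE
  have hJJ : Eᵀ * J (Fin 2) F * E = 0 := by
    ext i j
    rw [Matrix.mul_assoc]
    fin_cases i <;> fin_cases j
    · exact om_self a
    · exact hab
    · show om b a = 0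
      rw [om_antisym b a, hab, neg_zero]
    · exact om_self b
  set C : M2 F := Eᵀ * J (Fin 2) F * (g.1 * E) with hC'
  have hC : C.det ≠ 0 := by
    have e : ∀ i j, C i j = om (fun k => E k i) (g.1 *ᵥ fun k => E k j) := fun i j => by
      rw [hC', Matrix.mul_assoc]; rfl
    rw [det_fin_two, e, e, e, e]
    exact hdet
  have hCl : C⁻¹ * C = 1 := nonsing_inv_mul _ hC.isUnit
  have hCr : C * C⁻¹ = 1 := mul_nonsing_inv _ hC.isUnit
  set Pm : Matrix (Fin 2 ⊕ Fin 2) (Fin 2 ⊕ Fin 2) F := fromCols E (g.1 * E * -C⁻¹) with hPm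
  have hg : g.1ᵀ * J (Fin 2) F * g.1 = J (Fin 2) F := SymplecticGroup.mem_iff'.1 g.2
  have hgg : (g.1 * E)ᵀ * J (Fin 2) F * (g.1 * E) = 0 := by
    calc (g.1 * E)ᵀ * J (Fin 2) F * (g.1 * E)
        = Eᵀ * (g.1ᵀ * J (Fin 2) F * g.1) * E := by simp [transpose_mul, Matrix.mul_assoc]
      _ = 0 := by rw [hg, hJJ]
  have hCt : (g.1 * E)ᵀ * J (Fin 2) F * E = -Cᵀ := by
    simp [hC', transpose_mul, Matrix.mul_assoc, J_transpose]
  have hP : Pm ∈ symplecticGroup (Fin 2) F := by
    rw [SymplecticGroup.mem_iff', hPm, transpose_fromCols, fromRows_mul, fromRows_mul_fromCols]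
    show fromBlocks _ _ _ _ = fromBlocks 0 (-1) 1 0
    rw [fromBlocks_inj]
    refine ⟨hJJ, ?_, ?_, ?_⟩
    · rw [← Matrix.mul_assoc (Eᵀ * J (Fin 2) F), ← hC', Matrix.mul_neg, hCr]
    · rw [transpose_mul (g.1 * E), Matrix.mul_assoc _ (g.1 * E)ᵀ, Matrix.mul_assoc _ (_ * _) E, hCt,
        ← transpose_neg C, ← transpose_mul, Matrix.neg_mul, Matrix.mul_neg, neg_neg, hCr,
        transpose_one]
    · rw [transpose_mul (g.1 * E)]
      calc _ = (-C⁻¹)ᵀ * ((g.1 * E)ᵀ * J (Fin 2) F * (g.1 * E)) * -C⁻¹ := by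
            simp only [Matrix.mul_assoc]
        _ = 0 := by rw [hgg]; simp
  refine Cov.of_conj ⟨Pm, hP⟩ (cov_of_zero_block h3 ?_)
  set P : Sp F := ⟨Pm, hP⟩
  have hgE : (g * P).1 * fromRows (1 : M2 F) (0 : M2 F) = P.1 * fromRows (0 : M2 F) (-C) := by
    show g.1 * Pm * fromRows (1 : M2 F) (0 : M2 F) = Pm * fromRows (0 : M2 F) (-C)
    rw [hPm, Matrix.mul_assoc, fromCols_mul_fromRows, fromCols_mul_fromRows]
    simp [Matrix.mul_assoc, hCl]
  have e : (P⁻¹ * g * P).1 * fromRows (1 : M2 F) (0 : M2 F) = fromRows (0 : M2 F) (-C) := by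
    rw [mul_assoc, Submonoid.coe_mul, Matrix.mul_assoc, hgE, ← Matrix.mul_assoc,
      ← Submonoid.coe_mul, inv_mul_cancel, Submonoid.coe_one, Matrix.one_mul]
  have e' := congrArg Matrix.toRows₁ e
  rw [← fromBlocks_toBlocks (P⁻¹ * g * P).1, fromBlocks_mul_fromRows] at e'
  simpa using e'

/-- The negative of a symplectic matrix. -/
def negSp (g : Sp F) : Sp F := ⟨-g.1, SymplecticGroup.neg_mem g.2⟩

/-- The goal, up to sign. -/
def Cov' (h : Good T N) (g : Sp F) : Prop := Cov h g ∨ Cov h (negSp g)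

/-- Coordinates of a vector. -/
def vec (x0 x1 x2 x3 : F) : Fin 2 ⊕ Fin 2 → F := Sum.elim ![x0, x1] ![x2, x3]

theorem mulVec_vec (M : Matrix (Fin 2 ⊕ Fin 2) (Fin 2 ⊕ Fin 2) F) (x0 x1 x2 x3 : F)
    (i : Fin 2 ⊕ Fin 2) : (M *ᵥ vec x0 x1 x2 x3) i =
      M i (.inl 0) * x0 + M i (.inl 1) * x1 + M i (.inr 0) * x2 + M i (.inr 1) * x3 := by
  simp [vec, mulVec, dotProduct, Fintype.sum_sum_type, Fin.sum_univ_two]
  ring

theorem om_vec (x0 x1 x2 x3 : F) (v : Fin 2 ⊕ Fin 2 → F) :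
    om (vec x0 x1 x2 x3) v =
      -(x0 * v (.inr 0)) - x1 * v (.inr 1) + x2 * v (.inl 0) + x3 * v (.inl 1) := by
  rw [om_eq]; simp [vec]

theorem cov_normal (h3 : 3 ≤ Nat.card F) (g : Sp F) (κ : F) (hκ : κ ≠ 0)
    (hcol : (fun k => g.1 k (.inl 0)) = vec 0 0 κ 0) : Cov' h g := by
  have c0 := congrFun hcol (.inl 0)
  have c1 := congrFun hcol (.inl 1)
  have c2 := congrFun hcol (.inr 0)
  have c3 := congrFun hcol (.inr 1)
  simp [vec] at c0 c1 c2 c3
  have row : ∀ j, κ * g.1 (.inl 0) j = J (Fin 2) F (.inl 0) j := fun j => by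
    rw [← om_sp g (.inl 0) j, hcol, om_vec]; ring
  have r1 : g.1 (.inl 0) (.inl 1) = 0 := by
    have := row (.inl 1); simpa [Matrix.J, hκ] using this
  have r3 : g.1 (.inl 0) (.inr 1) = 0 := by
    have := row (.inr 1); simpa [Matrix.J, hκ] using this
  have r2 : κ * g.1 (.inl 0) (.inr 0) = -1 := by
    simpa [Matrix.J] using row (.inr 0)
  have hdiag : ∀ x y : F, om (vec 0 x 0 y) (g.1 *ᵥ vec 0 x 0 y) ≠ 0 → Cov' h g := fun x y hb => by
    refine Or.inl (cov_of_lagrangian h3 g (vec 1 0 0 0) (vec 0 x 0 y)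
      (by rw [om_vec]; simp [vec]) ?_)
    have e10 : om (vec 0 x 0 y) (g.1 *ᵥ vec 1 0 0 0) = 0 := by
      rw [om_vec]; simp [mulVec_vec, c1, c3]
    have e00 : om (vec 1 0 0 0) (g.1 *ᵥ vec 1 0 0 0) = -κ := by
      rw [om_vec]; simp [mulVec_vec, c2]
    rw [e10, e00, mul_zero, sub_zero]
    exact mul_ne_zero (neg_ne_zero.2 hκ) hb
  by_cases hr : g.1 (.inr 1) (.inl 1) = 0
  swap
  · exact hdiag 1 0 (by rw [om_vec]; simpa [mulVec_vec] using hr)
  by_cases hp : g.1 (.inl 1) (.inr 1) = 0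
  swap
  · exact hdiag 0 1 (by rw [om_vec]; simpa [mulVec_vec] using hp)
  by_cases hd : g.1 (.inl 1) (.inl 1) = g.1 (.inr 1) (.inr 1)
  swap
  · refine hdiag 1 1 ?_
    rw [om_vec]
    simp [mulVec_vec, hr, hp]
    exact fun e => hd (by linear_combination e)
  set p := g.1 (.inl 1) (.inl 1) with hp'
  have hpp : p * p = 1 := by
    have := om_sp g (.inl 1) (.inr 1)
    rw [om_eq, r1, r3, hr, hp, ← hd] at this
    simp [Matrix.J] at this
    linear_combination this
  have hp0 : p ≠ 0 := fun e => by simp [e] at hpp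
  have u3 : p * g.1 (.inr 1) (.inr 0) = g.1 (.inr 0) (.inl 1) * g.1 (.inl 0) (.inr 0) := by
    have := om_sp g (.inl 1) (.inr 0)
    rw [om_eq, r1, hr] at this
    simp [Matrix.J] at this
    linear_combination (-1 : F) * this
  have u1 : p * g.1 (.inl 1) (.inr 0) = -(g.1 (.inr 0) (.inr 1) * g.1 (.inl 0) (.inr 0)) := by
    have := om_sp g (.inr 1) (.inr 0)
    rw [om_eq, r3, hp, ← hd] at this
    simp [Matrix.J] at this
    linear_combination this
  have hu : g.1 (.inl 0) (.inr 0) ≠ 0 := fun e => by simp [e] at r2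
  by_cases hk : g.1 (.inr 0) (.inl 1) = 0
  swap
  · refine Or.inl (cov_of_lagrangian h3 g (vec 1 0 1 0) (vec 0 1 0 0)
      (by rw [om_vec]; simp [vec]) ?_)
    have e11 : om (vec 0 1 0 0) (g.1 *ᵥ vec 0 1 0 0) = 0 := by
      rw [om_vec]; simp [mulVec_vec, hr]
    have e01 : om (vec 1 0 1 0) (g.1 *ᵥ vec 0 1 0 0) = -g.1 (.inr 0) (.inl 1) := by
      rw [om_vec]; simp [mulVec_vec, r1]
    have e10 : om (vec 0 1 0 0) (g.1 *ᵥ vec 1 0 1 0) = -g.1 (.inr 1) (.inr 0) := by
      rw [om_vec]; simp [mulVec_vec, c3]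
    rw [e11, e01, e10, mul_zero, zero_sub, neg_ne_zero]
    refine mul_ne_zero (neg_ne_zero.2 hk) (neg_ne_zero.2 fun e => ?_)
    rw [e, mul_zero] at u3
    exact mul_ne_zero hk hu u3.symm
  by_cases hk' : g.1 (.inr 0) (.inr 1) = 0
  swap
  · refine Or.inl (cov_of_lagrangian h3 g (vec 1 0 1 0) (vec 0 0 0 1)
      (by rw [om_vec]; simp [vec]) ?_)
    have e11 : om (vec 0 0 0 1) (g.1 *ᵥ vec 0 0 0 1) = 0 := by
      rw [om_vec]; simp [mulVec_vec, hp]
    have e01 : om (vec 1 0 1 0) (g.1 *ᵥ vec 0 0 0 1) = -g.1 (.inr 0) (.inr 1) := by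
      rw [om_vec]; simp [mulVec_vec, r3]
    have e10 : om (vec 0 0 0 1) (g.1 *ᵥ vec 1 0 1 0) = g.1 (.inl 1) (.inr 0) := by
      rw [om_vec]; simp [mulVec_vec, c1]
    rw [e11, e01, e10, mul_zero, zero_sub, neg_ne_zero]
    refine mul_ne_zero (neg_ne_zero.2 hk') fun e => ?_
    rw [e, mul_zero] at u1
    exact mul_ne_zero hk' hu (neg_eq_zero.1 u1.symm)
  have u3' : g.1 (.inr 1) (.inr 0) = 0 := by simpa [hk, hp0] using u3
  have u1' : g.1 (.inl 1) (.inr 0) = 0 := by simpa [hk', hp0] using u1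
  set y := g.1 (.inr 0) (.inr 0) with hy
  by_cases hy2 : p * y = 2
  swap
  · refine Or.inl (cov_of_lagrangian h3 g (vec 1 1 0 0) (vec 0 0 1 (-1))
      (by rw [om_vec]; simp [vec]) ?_)
    rw [om_vec, om_vec, om_vec, om_vec]
    simp [mulVec_vec, c0, c1, c2, c3, r1, r3, hr, hp, hk, hk', u1', u3', ← hd, ← hp', ← hy]
    intro e
    exact hy2 (by linear_combination (-1 : F) * e + hpp - r2)
  -- a transvection up to the sign `p`
  obtain ⟨g', hg', hcov⟩ : ∃ g' : Sp F, g'.1 = p • g.1 ∧ (Cov h g' → Cov' h g) := by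
    have hs : p = 1 ∨ p = -1 := mul_self_eq_one_iff.1 hpp
    rcases hs with e | e
    · exact ⟨g, by rw [e, one_smul], Or.inl⟩
    · exact ⟨negSp g, by rw [e, neg_one_smul]; rfl, Or.inr⟩
  refine hcov ?_
  set μ := p * κ with hμ
  have hμ0 : μ ≠ 0 := mul_ne_zero hp0 hκ
  have hS : (!![-(1 / μ), 0; 0, 0] : M2 F)ᵀ = !![-(1 / μ), 0; 0, 0] := by
    ext i j; fin_cases i <;> fin_cases j <;> simp
  have hR : (!![μ, 0; 0, 0] : M2 F)ᵀ = !![μ, 0; 0, 0] := by
    ext i j; fin_cases i <;> fin_cases j <;> simp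
  refine Cov.of_conj (up _ hS) ?_
  suffices e : (up _ hS)⁻¹ * g' * up _ hS = lw _ hR by rw [e]; exact cov_lw _ hR
  rw [mul_assoc, inv_mul_eq_iff_eq_mul]
  refine sp_ext ?_
  have hu' : g.1 (.inl 0) (.inr 0) = -(1 / κ) := by
    field_simp
    linear_combination r2
  have hk2 : p * g.1 (.inl 0) (.inr 0) = -(1 / μ) := by
    rw [hu', hμ]
    field_simp
    linear_combination (-1 : F) * hpp
  ext i j
  rw [Submonoid.coe_mul, Submonoid.coe_mul, hg']
  rcases i with i | i <;> rcases j with j | j <;> fin_cases i <;> fin_cases j <;>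
    simp [Matrix.mul_apply, Fintype.sum_sum_type, Fin.sum_univ_two, c0, c1, c2, c3, r1, r3, hr, hp,
      hk, hk', u1', u3', ← hd, ← hp', ← hy, hk2, hy2, hpp, ← hμ, hμ0] <;>
    field_simp <;> ring

/-- Projection to the orthogonal of the plane spanned by `a` and `f` with `om a f = -1`. -/
theorem exists_pair_perp {a f : Fin 2 ⊕ Fin 2 → F} (haf : om a f = -1) :
    ∃ b1 b2 : Fin 2 ⊕ Fin 2 → F, om a b1 = 0 ∧ om a b2 = 0 ∧ om f b1 = 0 ∧ om f b2 = 0 ∧
      om b1 b2 = -1 := by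
  let pr : (Fin 2 ⊕ Fin 2 → F) → (Fin 2 ⊕ Fin 2 → F) := fun w =>
    w + om w f • a - om w a • f
  have om_add : ∀ u v w : Fin 2 ⊕ Fin 2 → F, om u (v + w) = om u v + om u w := fun u v w => by
    simp [om, mulVec_add, dotProduct_add]
  have om_sub : ∀ u v w : Fin 2 ⊕ Fin 2 → F, om u (v - w) = om u v - om u w := fun u v w => by
    simp [om, mulVec_sub, dotProduct_sub]
  have om_smul : ∀ (c : F) (u v : Fin 2 ⊕ Fin 2 → F), om u (c • v) = c * om u v := fun c u v => by
    simp [om, mulVec_smul, dotProduct_smul]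
  have ha : ∀ w, om a (pr w) = 0 := fun w => by
    rw [om_sub, om_add, om_smul, om_smul, haf, om_self, om_antisym a w]; ring
  have hf : ∀ w, om f (pr w) = 0 := fun w => by
    rw [om_sub, om_add, om_smul, om_smul, om_antisym f a, haf, om_self, om_antisym f w]; ring
  by_cases hex : ∃ v w, om (pr v) (pr w) ≠ 0
  · obtain ⟨v, w, hvw⟩ := hex
    refine ⟨pr v, (-(om (pr v) (pr w))⁻¹) • pr w, ha v, by rw [om_smul, ha, mul_zero], hf v,
      by rw [om_smul, hf, mul_zero], ?_⟩
    rw [om_smul]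
    field_simp
  · push Not at hex
    exfalso
    have hz : ∀ v w, om (pr v) w = 0 := fun v w => by
      have := hex v w
      rw [show pr w = w + om w f • a - om w a • f from rfl, om_sub, om_add, om_smul, om_smul,
        om_antisym (pr v) a, ha, om_antisym (pr v) f, hf] at this
      simpa using this
    have hz' : ∀ v, pr v = 0 := fun v => by
      funext k
      rcases k with k | k
      · have := hz v (Pi.single (.inr k) 1)
        rw [om_eq] at this
        fin_cases k <;> simpa [Pi.single_apply] using this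
      · have := hz v (Pi.single (.inl k) 1)
        rw [om_eq] at this
        fin_cases k <;> simpa [Pi.single_apply] using this
    classical
    have htop : Submodule.span F (({a, f} : Finset (Fin 2 ⊕ Fin 2 → F)) : Set (Fin 2 ⊕ Fin 2 → F)) = ⊤ := by
      refine eq_top_iff.2 fun v _ => ?_
      have e : v = om v a • f - om v f • a := by
        have h0 : v + om v f • a - om v a • f = 0 := hz' v
        linear_combination (norm := module) h0
      rw [e]
      exact sub_mem (Submodule.smul_mem _ _ (Submodule.subset_span (by simp)))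
        (Submodule.smul_mem _ _ (Submodule.subset_span (by simp)))
    have hle := finrank_span_finset_le_card (R := F) ({a, f} : Finset (Fin 2 ⊕ Fin 2 → F))
    rw [Set.finrank, htop, finrank_top, Module.finrank_fintype_fun_eq_card, Fintype.card_sum,
      Fintype.card_fin] at hle
    exact absurd (hle.trans Finset.card_le_two) (by norm_num)

/-- Every element other than `±1` is covered up to sign. -/
theorem cov_main (h3 : 3 ≤ Nat.card F) (g : Sp F) (hg1 : g.1 ≠ 1) (hg2 : g.1 ≠ -1) :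
    Cov' h g := by
  by_cases hq : ∀ v, om v (g.1 *ᵥ v) = 0
  · by_cases hex : ∃ a b, om a b = 0 ∧ om a (g.1 *ᵥ b) ≠ 0
    · obtain ⟨a, b, hab, hne⟩ := hex
      refine Or.inl (cov_of_lagrangian h3 g a b hab ?_)
      have e := hq (a + b)
      simp only [om, mulVec_add, dotProduct_add, add_dotProduct] at e
      have hba : om b (g.1 *ᵥ a) = -om a (g.1 *ᵥ b) := by
        have ha := hq a
        have hb := hq b
        simp only [om] at ha hb ⊢
        linear_combination e - ha - hb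
      rw [hq a, hba, zero_mul, mul_neg, sub_neg_eq_add, zero_add]
      exact mul_ne_zero hne hne
    · push Not at hex
      exfalso
      have q01 := hex (vec 1 0 0 0) (vec 0 1 0 0) (by rw [om_vec]; simp [vec])
      have q03 := hex (vec 1 0 0 0) (vec 0 0 0 1) (by rw [om_vec]; simp [vec])
      have q00 := hex (vec 1 0 0 0) (vec 1 0 0 0) (om_self _)
      have q10 := hex (vec 0 1 0 0) (vec 1 0 0 0) (by rw [om_vec]; simp [vec])
      have q11 := hex (vec 0 1 0 0) (vec 0 1 0 0) (om_self _)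
      have q12 := hex (vec 0 1 0 0) (vec 0 0 1 0) (by rw [om_vec]; simp [vec])
      have q21 := hex (vec 0 0 1 0) (vec 0 1 0 0) (by rw [om_vec]; simp [vec])
      have q22 := hex (vec 0 0 1 0) (vec 0 0 1 0) (om_self _)
      have q23 := hex (vec 0 0 1 0) (vec 0 0 0 1) (by rw [om_vec]; simp [vec])
      have q30 := hex (vec 0 0 0 1) (vec 1 0 0 0) (by rw [om_vec]; simp [vec])
      have q32 := hex (vec 0 0 0 1) (vec 0 0 1 0) (by rw [om_vec]; simp [vec])
      have q33 := hex (vec 0 0 0 1) (vec 0 0 0 1) (om_self _)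
      have d01 := hex (vec 0 0 1 (-1)) (vec 1 1 0 0) (by rw [om_vec]; simp [vec])
      have d03 := hex (vec 0 1 1 0) (vec 1 0 0 1) (by rw [om_vec]; simp [vec])
      have d12 := hex (vec 1 0 0 1) (vec 0 1 1 0) (by rw [om_vec]; simp [vec])
      simp [om_vec, mulVec_vec] at q01 q03 q00 q10 q11 q12 q21 q22 q23 q30 q32 q33 d01 d03 d12
      simp [q01, q03, q00, q10, q11, q12, q21, q22, q23, q30, q32, q33] at d01 d03 d12
      set d := g.1 (.inl 0) (.inl 0) with hd
      have hd1 : g.1 (.inl 1) (.inl 1) = d := by linear_combination (-1 : F) * d01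
      have hd3 : g.1 (.inr 1) (.inr 1) = d := by linear_combination (-1 : F) * d03
      have hd2 : g.1 (.inr 0) (.inr 0) = d := by linear_combination (-1 : F) * d12 + hd1
      have hdd : d * d = 1 := by
        have := om_sp g (.inl 0) (.inr 0)
        rw [om_eq] at this
        simp [q01, q03, q00, q10, q11, q12, q21, q22, q23, q30, q32, q33, hd2, ← hd, Matrix.J]
          at this
        linear_combination this
      have hgd : g.1 = d • (1 : Matrix (Fin 2 ⊕ Fin 2) (Fin 2 ⊕ Fin 2) F) := by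
        ext i j
        rcases i with i | i <;> rcases j with j | j <;> fin_cases i <;> fin_cases j <;>
          simp [Matrix.one_apply, q01, q03, q00, q10, q11, q12, q21, q22, q23, q30, q32, q33,
            hd1, hd2, hd3, ← hd]
      rcases mul_self_eq_one_iff.1 hdd with e | e <;> rw [e] at hgd
      · exact hg1 (by simpa using hgd)
      · exact hg2 (by simpa using hgd)
  · push Not at hq
    obtain ⟨a, ha⟩ := hq
    set κ := -om a (g.1 *ᵥ a) with hκ
    have hκ0 : κ ≠ 0 := neg_ne_zero.2 ha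
    set f := κ⁻¹ • (g.1 *ᵥ a) with hf
    have haf : om a f = -1 := by
      rw [show om a f = κ⁻¹ * om a (g.1 *ᵥ a) by
        simp [om, hf, mulVec_smul, dotProduct_smul], hκ]
      field_simp
    obtain ⟨b1, b2, h1, h2, h4, h5, h6⟩ := exists_pair_perp haf
    set Pm : Matrix (Fin 2 ⊕ Fin 2) (Fin 2 ⊕ Fin 2) F :=
      Matrix.of fun i j => Sum.elim ![a, b1] ![f, b2] j i with hPm
    have hP : Pm ∈ symplecticGroup (Fin 2) F := by
      rw [SymplecticGroup.mem_iff']
      ext i j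
      rw [om_gram]
      have hcols : ∀ k, (fun l => Pm l k) = Sum.elim ![a, b1] ![f, b2] k := fun k => rfl
      rw [hcols, hcols]
      rcases i with i | i <;> rcases j with j | j <;> fin_cases i <;> fin_cases j <;>
        simp [Matrix.J, om_self, haf, h1, h2, h4, h5, h6, om_antisym b1 a, om_antisym b2 a,
          om_antisym f a, om_antisym b1 f, om_antisym b2 f, om_antisym b2 b1]
    set P : Sp F := ⟨Pm, hP⟩ with hP'
    have hcol : (fun k => (P⁻¹ * g * P).1 k (.inl 0)) = vec 0 0 κ 0 := by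
      have e1 : (g * P).1 *ᵥ vec 1 0 0 0 = P.1 *ᵥ vec 0 0 κ 0 := by
        have ea : Pm *ᵥ vec 1 0 0 0 = a := by
          funext k; rw [mulVec_vec]; simp [hPm]
        have ef : Pm *ᵥ vec 0 0 κ 0 = g.1 *ᵥ a := by
          funext k; rw [mulVec_vec]; simp [hPm, hf]; field_simp
        show (g.1 * Pm) *ᵥ _ = Pm *ᵥ _
        rw [← mulVec_mulVec, ea, ef]
      have e2 : (P⁻¹ * g * P).1 *ᵥ vec 1 0 0 0 = vec 0 0 κ 0 := by
        rw [mul_assoc, Submonoid.coe_mul, ← mulVec_mulVec, e1, mulVec_mulVec, ← Submonoid.coe_mul,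
          inv_mul_cancel, Submonoid.coe_one, one_mulVec]
      rw [← e2]
      funext k
      rw [mulVec_vec]
      simp
    rcases cov_normal (h := h) h3 (P⁻¹ * g * P) κ hκ0 hcol with hc | hc
    · exact Or.inl (Cov.of_conj P hc)
    · refine Or.inr (Cov.of_conj P ?_)
      have e : P⁻¹ * negSp g * P = negSp (P⁻¹ * g * P) := sp_ext <| by
        simp [negSp, Matrix.mul_neg, Matrix.neg_mul]
      rwa [e]

end Cfsg.Agent.PSp4Cover56
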