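import Cfsg.Agent.PSp4Cover56.Frame
import Cfsg.Prelude.Def_Classical

/-!
A semisimple class of `PSp₄(F)` whose square covers the non-identity elements (helper56).
-/

set_option autoImplicit false
set_option linter.unusedSectionVars false

namespace Cfsg.Agent.PSp4Cover56

open Matrix

variable {F : Type*} [Field F] [Finite F]

attribute [-simp] Matrix.coe_units_inv

theorem mk_negSp (g : Sp F) :
    (QuotientGroup.mk (negSp g) : Cfsg.PSp 2 F) = QuotientGroup.mk g := by
  refine QuotientGroup.eq.2 ?_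
  have e : (negSp g)⁻¹ * g = negSp 1 := by
    rw [inv_mul_eq_iff_eq_mul]
    exact sp_ext <| by simp [negSp]
  rw [e, Subgroup.mem_center_iff]
  intro x
  exact sp_ext <| by simp [negSp]

/-- A `2 × 2` matrix with distinct eigenvalues has order prime to the characteristic. -/
theorem not_dvd_orderOf_comp (p : ℕ) [Fact p.Prime] [CharP F p] {T N : F} (h : Good T N) :
    ¬ p ∣ orderOf (comp T h.hN) := by
  intro hd
  set c := comp T h.hN
  set o := orderOf c
  set u := c ^ (o / p) with hu
  have hup : u ^ p = 1 := by rw [hu, ← pow_mul, Nat.div_mul_cancel hd, pow_orderOf_eq_one]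
  have hu1 : u ≠ 1 := by
    intro e
    have ho : 0 < o := orderOf_pos c
    have h1 := Nat.le_of_dvd (Nat.div_pos (Nat.le_of_dvd ho hd) (Fact.out : p.Prime).pos)
      (orderOf_dvd_of_pow_eq_one e)
    exact absurd (Nat.div_lt_self ho (Fact.out : p.Prime).one_lt) (not_lt.2 h1)
  have hnil : IsNilpotent ((u : M2 F) - 1) := by
    haveI : CharP (M2 F) p := inferInstance
    refine ⟨p, ?_⟩
    rw [sub_pow_char_of_commute p (Commute.one_right _), one_pow, ← Units.val_pow_eq_pow_val, hup]
    simp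
  obtain ⟨α, β, hαβ⟩ : ∃ α β : F, (u : M2 F) - 1 = !![β, -(α * N); α, β + α * T] := by
    have hc : (u : M2 F) * (c : M2 F) = (c : M2 F) * (u : M2 F) := by
      rw [← Units.val_mul, ← Units.val_mul]
      exact congrArg Units.val (Commute.pow_self c (o / p))
    obtain ⟨x, y, z, w, hM⟩ : ∃ x y z w : F, (u : M2 F) = !![x, y; z, w] :=
      ⟨_, _, _, _, eta_fin_two _⟩
    rw [comp_val, hM] at hc
    have h1 := congrFun (congrFun hc 0) 0
    have h2 := congrFun (congrFun hc 1) 0
    simp at h1 h2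
    refine ⟨z, x - 1, ?_⟩
    rw [hM]
    ext i j
    fin_cases i <;> fin_cases j <;> simp
    · linear_combination h1
    · linear_combination h2
  have hz := (Matrix.isNilpotent_trace_of_isNilpotent hnil).eq_zero
  have hdz : ((u : M2 F) - 1).det = 0 := by
    obtain ⟨n, hn⟩ := hnil
    have := congrArg Matrix.det hn
    rw [det_pow] at this
    simp at this
    exact this.1
  rw [hαβ] at hz hdz
  simp [trace_fin_two, det_fin_two] at hz hdz
  have hα : α = 0 := by
    have : α ^ 2 * (T ^ 2 - 4 * N) = 0 := by linear_combination hz * (2 * β + α * T) - 4 * hdz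
    simpa [sub_eq_zero, h.disc] using this
  have hβ : β = 0 := by
    subst hα
    simpa using hdz
  refine hu1 (Units.ext (sub_eq_zero.1 ?_))
  rw [Units.val_one, hαβ, hα, hβ]
  ext i j
  fin_cases i <;> fin_cases j <;> simp

theorem exists_cover (p : ℕ) [Fact p.Prime] [CharP F p] (h3 : 3 ≤ Nat.card F) :
    ∃ x : Cfsg.PSp 2 F, ¬ p ∣ orderOf x ∧
      ∀ g : Cfsg.PSp 2 F, g ≠ 1 → ∃ u v : Cfsg.PSp 2 F,
        g = (u * x * u⁻¹) * (v * x * v⁻¹) := by
  obtain ⟨T, N, h⟩ := exists_good h3
  refine ⟨QuotientGroup.mk (dM (comp T h.hN)), fun hd => not_dvd_orderOf_comp p h ?_, ?_⟩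
  · refine hd.trans ?_
    exact orderOf_map_dvd ((QuotientGroup.mk' (Subgroup.center (Sp F))).comp
      (MonoidHom.mk' (dM (F := F)) dM_mul)) (comp T h.hN)
  · intro g hg
    obtain ⟨g, rfl⟩ := QuotientGroup.mk_surjective g
    have h1 : g.1 ≠ 1 := fun e => hg (by rw [show g = 1 from Subtype.ext e]; rfl)
    have h2 : g.1 ≠ -1 := fun e => hg (by
      rw [show g = negSp 1 from Subtype.ext e, mk_negSp]; rfl)
    rcases cov_main (h := h) h3 g h1 h2 with ⟨u, v, e⟩ | ⟨u, v, e⟩
    · refine ⟨QuotientGroup.mk u, QuotientGroup.mk v, ?_⟩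
      rw [e]
      simp
    · refine ⟨QuotientGroup.mk u, QuotientGroup.mk v, ?_⟩
      rw [← mk_negSp g, e]
      simp

end Cfsg.Agent.PSp4Cover56
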