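import Cfsg.Agent.PSp4Cover56.Blocks

/-!
The class of `2 × 2` matrices of given trace and determinant (helper56).
-/

set_option autoImplicit false
set_option linter.unusedSectionVars false

namespace Cfsg.Agent.PSp4Cover56

open Matrix

variable {F : Type*} [Field F] [Finite F]

attribute [-simp] Matrix.coe_units_inv

/-- Admissible trace and determinant. -/
structure Good (T N : F) : Prop where
  hT : T ≠ 0
  hN : N ≠ 0
  disc : T ^ 2 ≠ 4 * N
  reg : ∀ x y z : F, z = x → (1 + N) * y = T * z →
    z = N ^ 2 * x - 2 * N * T * y + T ^ 2 * z → x = 0 ∧ y = 0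
  iso : ∃ a e : F, -a ^ 2 + a * T * (1 - e) - N * e ^ 2 = N

theorem exists_good (h3 : 3 ≤ Nat.card F) : ∃ T N : F, Good T N := by
  haveI : Fintype F := Fintype.ofFinite F
  by_cases h2 : (2 : F) = 0
  · obtain ⟨N, hN, -, hN1⟩ : ∃ N : F, N ≠ 0 ∧ N ≠ 0 ∧ N ≠ 1 := by
      by_contra h
      push Not at h
      have : Nat.card F ≤ 2 := by
        rw [Nat.card_eq_fintype_card]
        classical
        calc Fintype.card F = (Finset.univ : Finset F).card := rfl
          _ ≤ ({0, 1} : Finset F).card := Finset.card_le_card fun x _ => by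
              by_cases hx : x = 0
              · simp [hx]
              · simp [h x hx hx]
          _ ≤ 2 := Finset.card_le_two
      omega
    refine ⟨1, N, one_ne_zero, hN, ?_, ?_, ⟨0, 1, ?_⟩⟩
    · intro h
      exact one_ne_zero (α := F) (by linear_combination h + 2 * N * h2)
    · intro x y z hz hy h
      subst hz
      have hx : z * (N ^ 2 * 1) = 0 := by linear_combination (-1 : F) * h + N * y * h2
      have hx0 : z = 0 := by simpa [hN] using hx
      refine ⟨hx0, ?_⟩
      rw [hx0, mul_zero] at hy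
      refine (mul_eq_zero.1 hy).resolve_left fun h1 => hN1 ?_
      linear_combination h1 - h2
    · linear_combination (-N) * h2
  · refine ⟨2, -1, h2, by simp, ?_, ?_, ?_⟩
    · intro h
      have : (2 : F) ^ 3 = 0 := by linear_combination h
      exact h2 (eq_zero_of_pow_eq_zero this)
    · intro x y z hz hy h
      have hz0 : z = 0 := by
        have : (2 : F) * z = 0 := by linear_combination -hy
        simpa [h2] using this
      subst hz
      subst hz0
      refine ⟨rfl, ?_⟩
      have : (2 : F) * (2 * y) = 0 := by linear_combination -h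
      simpa [h2] using this
    · have hodd : Fintype.card F % 2 = 1 := by
        refine FiniteField.odd_card_of_char_ne_two fun hc => h2 ?_
        haveI := CharP.congr (R := F) (ringChar F) hc
        exact CharP.cast_eq_zero F 2
      open Polynomial in
      obtain ⟨u, e, hue⟩ := FiniteField.exists_root_sum_quadratic
        (f := (X ^ 2 : F[X])) (g := C (-2) * X ^ 2 + C 2 * X + C (-2)) (by simp)
        (degree_quadratic (neg_ne_zero.2 h2)) hodd
      simp only [Polynomial.eval_pow, Polynomial.eval_X, Polynomial.eval_add, Polynomial.eval_mul,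
        Polynomial.eval_C] at hue
      exact ⟨u + (1 - e), e, by linear_combination (-1 : F) * hue⟩

/-- The companion matrix. -/
def comp (T : F) {N : F} (hN : N ≠ 0) : GL (Fin 2) F :=
  GeneralLinearGroup.mkOfDetNeZero !![0, -N; 1, T] (by simp [det_fin_two, hN])

theorem comp_val (T : F) {N : F} (hN : N ≠ 0) : (comp T hN : M2 F) = !![0, -N; 1, T] := rfl

theorem comp_reg {T N : F} (h : Good T N) : Reg (comp T h.hN) := by
  intro X hX e
  have hs : X 1 0 = X 0 1 := by
    have := congrFun (congrFun hX 0) 1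
    simpa using this
  have e00 := congrFun (congrFun e 0) 0
  have e01 := congrFun (congrFun e 0) 1
  have e11 := congrFun (congrFun e 1) 1
  simp [comp_val, Matrix.mul_apply, Fin.sum_univ_two, transpose_apply, hs] at e00 e01 e11
  obtain ⟨hx, hy⟩ := h.reg (X 0 0) (X 0 1) (X 1 1) (by linear_combination e00)
    (by linear_combination (-1 : F) * e01) (by linear_combination (-1 : F) * e11)
  ext i j
  fin_cases i <;> fin_cases j <;> simp [hs, hx, hy]
  rw [e00, hx]

/-- A matrix with separable characteristic polynomial of trace `T` and determinant `N`. -/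
theorem isConj_comp {T N : F} (h : Good T N) {y : GL (Fin 2) F} (ht : (y : M2 F).trace = T)
    (hd : (y : M2 F).det = N) : IsConj (comp T h.hN) y := by
  obtain ⟨a, b, e, d, hy⟩ : ∃ a b e d : F, (y : M2 F) = !![a, b; e, d] :=
    ⟨_, _, _, _, eta_fin_two _⟩
  rw [hy] at ht hd
  simp [trace_fin_two, det_fin_two] at ht hd
  obtain ⟨v0, v1, hv⟩ : ∃ v0 v1 : F,
      v0 * (e * v0 + d * v1) - v1 * (a * v0 + b * v1) ≠ 0 := by
    by_contra hc
    push Not at hc
    have he : e = 0 := by simpa using hc 1 0
    have hb : b = 0 := by simpa using hc 0 1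
    have had : d = a := by
      have := hc 1 1
      simp [he, hb] at this
      linear_combination this
    refine h.disc ?_
    rw [← ht, ← hd, had, he, hb]
    ring
  refine isConj_iff.2 ⟨GeneralLinearGroup.mkOfDetNeZero
    !![v0, a * v0 + b * v1; v1, e * v0 + d * v1]
    (by simp [det_fin_two]; intro h0; exact hv (by linear_combination h0)), ?_⟩
  rw [mul_inv_eq_iff_eq_mul]
  ext i j
  rw [Units.val_mul, Units.val_mul, comp_val, hy]
  simp [GeneralLinearGroup.mkOfDetNeZero, GeneralLinearGroup.mk'']
  subst ht hd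
  fin_cases i <;> fin_cases j <;> simp <;> ring

theorem exists_pair_aux {T N : F} (h : Good T N) (U : GL (Fin 2) F)
    (hUT : (U : M2 F).trace ≠ T) :
    ∃ y c : GL (Fin 2) F, IsConj (comp T h.hN) y ∧ IsConj (comp T h.hN) c ∧
      ((c : M2 F) * ((y⁻¹ : GL (Fin 2) F) : M2 F) * U).trace = 0 := by
  obtain ⟨p, q, r, s, hU⟩ : ∃ p q r s : F, (U : M2 F) = !![p, q; r, s] :=
    ⟨_, _, _, _, eta_fin_two _⟩
  have hUd : p * s - q * r ≠ 0 := by
    have := (U.det).ne_zero
    simpa [GeneralLinearGroup.val_det_apply, hU, det_fin_two] using this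
  have hdT : ∀ a b e : F, a * (T - a) - b * e = N →
      ∃ c : GL (Fin 2) F, (c : M2 F) = !![a, b; e, T - a] ∧ IsConj (comp T h.hN) c := by
    intro a b e he
    let c : GL (Fin 2) F := GeneralLinearGroup.mkOfDetNeZero !![a, b; e, T - a]
      (by rw [det_fin_two]; simpa [he] using h.hN)
    exact ⟨c, rfl, isConj_comp h (by simp [c, GeneralLinearGroup.mkOfDetNeZero,
      GeneralLinearGroup.mk'', trace_fin_two]) (by simp [c, GeneralLinearGroup.mkOfDetNeZero,
      GeneralLinearGroup.mk'', det_fin_two, he])⟩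
  by_cases hsc : r = 0 ∧ q = 0 ∧ s = p
  · obtain ⟨rfl, rfl, rfl⟩ := hsc
    obtain ⟨a, e, hae⟩ := h.iso
    obtain ⟨c, hc, hcc⟩ := hdT a (a * T + e * N) e (by linear_combination hae)
    refine ⟨comp T h.hN, c, IsConj.refl _, hcc, ?_⟩
    have hi : (((comp T h.hN)⁻¹ : GL (Fin 2) F) : M2 F) = !![T / N, 1; -(1 / N), 0] := by
      refine Units.inv_eq_of_mul_eq_one_right ?_
      rw [comp_val]
      have := h.hN
      ext i j
      fin_cases i <;> fin_cases j <;> simp <;> field_simp <;> ring
    rw [hi, hc, hU]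
    have := h.hN
    simp [trace_fin_two]
    field_simp
    ring
  · obtain ⟨v0, v1, hv⟩ : ∃ v0 v1 : F,
        v0 * (r * v0 + s * v1) - v1 * (p * v0 + q * v1) ≠ 0 := by
      by_contra hc
      push Not at hc
      have hr : r = 0 := by simpa using hc 1 0
      have hq : q = 0 := by simpa using hc 0 1
      have := hc 1 1
      simp [hr, hq] at this
      exact hsc ⟨hr, hq, by linear_combination this⟩
    let z : GL (Fin 2) F := GeneralLinearGroup.mkOfDetNeZero
      !![v0, p * v0 + q * v1; v1, r * v0 + s * v1]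
      (by simp [det_fin_two]; intro h0; exact hv (by linear_combination h0))
    have hz : (z : M2 F) = !![v0, p * v0 + q * v1; v1, r * v0 + s * v1] := rfl
    have hUz : (U : M2 F) * z = (z : M2 F) * !![0, -(p * s - q * r); 1, p + s] := by
      rw [hU, hz]
      ext i j
      fin_cases i <;> fin_cases j <;> simp <;> ring
    set W0 : M2 F := (((comp T h.hN)⁻¹ : GL (Fin 2) F) : M2 F) *
      !![0, -(p * s - q * r); 1, p + s] with hW0
    have hi : (((comp T h.hN)⁻¹ : GL (Fin 2) F) : M2 F) = !![T / N, 1; -(1 / N), 0] := by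
      refine Units.inv_eq_of_mul_eq_one_right ?_
      rw [comp_val]
      have := h.hN
      ext i j
      fin_cases i <;> fin_cases j <;> simp <;> field_simp <;> ring
    have hW : W0 = !![1, p + s - T * (p * s - q * r) / N; 0, (p * s - q * r) / N] := by
      rw [hW0, hi]
      ext i j
      fin_cases i <;> fin_cases j <;> simp <;> ring
    set β := p + s - T * (p * s - q * r) / N with hβ
    set δ := (p * s - q * r) / N with hδ
    have hδ0 : δ ≠ 0 := div_ne_zero hUd h.hN
    obtain ⟨a, b, e, he, htr⟩ : ∃ a b e : F, a * (T - a) - b * e = N ∧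
        a + β * e + δ * (T - a) = 0 := by
      by_cases hb : β = 0
      · by_cases hd : δ = 1
        · exfalso
          refine hUT ?_
          rw [hU, trace_fin_two]
          have hps : p + s = T := by
            have := hb
            rw [hβ, mul_div_assoc, ← hδ, hd] at this
            linear_combination this
          simpa using hps
        · have hd' : (1 : F) - δ ≠ 0 := sub_ne_zero.2 (Ne.symm hd)
          refine ⟨-(δ * T) / (1 - δ), -(δ * T) / (1 - δ) * (T - -(δ * T) / (1 - δ)) - N, 1,
            by ring, ?_⟩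
          rw [hb]
          field_simp
          ring
      · obtain ⟨a, ha⟩ : ∃ a : F, a + δ * (T - a) ≠ 0 := by
          by_contra hc
          push Not at hc
          have h0 := hc 0
          simp [hδ0, h.hT] at h0
        set e := -(a + δ * (T - a)) / β with he
        have he0 : e ≠ 0 := div_ne_zero (neg_ne_zero.2 ha) hb
        refine ⟨a, (a * (T - a) - N) / e, e, ?_, ?_⟩
        · rw [div_mul_cancel₀ _ he0]
          ring
        · rw [he, mul_div_cancel₀ _ hb]
          ring
    obtain ⟨c0, hc0, hcc⟩ := hdT a b e he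
    refine ⟨z * comp T h.hN * z⁻¹, z * c0 * z⁻¹, isConj_iff.2 ⟨z, rfl⟩,
      hcc.trans (isConj_iff.2 ⟨z, rfl⟩), ?_⟩
    have e1 : ((z * c0 * z⁻¹ : GL (Fin 2) F) : M2 F) *
        (((z * comp T h.hN * z⁻¹)⁻¹ : GL (Fin 2) F) : M2 F) * (U : M2 F) * z =
        (z : M2 F) * ((c0 : M2 F) * W0) := by
      rw [Matrix.mul_assoc, hUz, hW0, ← Units.val_mul, ← Matrix.mul_assoc, ← Units.val_mul]
      rw [show z * c0 * z⁻¹ * (z * comp T h.hN * z⁻¹)⁻¹ * z = z * (c0 * (comp T h.hN)⁻¹) by group]
      simp only [Units.val_mul, Matrix.mul_assoc]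
    have e2 : ((z * c0 * z⁻¹ : GL (Fin 2) F) : M2 F) *
        (((z * comp T h.hN * z⁻¹)⁻¹ : GL (Fin 2) F) : M2 F) * (U : M2 F) =
        (z : M2 F) * ((c0 : M2 F) * W0) * ((z⁻¹ : GL (Fin 2) F) : M2 F) := by
      rw [← e1, Matrix.mul_assoc _ (z : M2 F), Units.mul_inv, Matrix.mul_one]
    rw [e2, trace_units_conj, hc0, hW]
    simp [trace_fin_two]
    linear_combination htr

/-- Any functional `c ↦ tr (c y⁻¹ U)` vanishes at some member of the class, for suitable `y`. -/
theorem exists_pair {T N : F} (h : Good T N) (h3 : 3 ≤ Nat.card F) (U : GL (Fin 2) F) :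
    ∃ y c : GL (Fin 2) F, IsConj (comp T h.hN) y ∧ IsConj (comp T h.hN) c ∧
      ((c : M2 F) * ((y⁻¹ : GL (Fin 2) F) : M2 F) * U).trace = 0 := by
  obtain ⟨μ, hμ0, hμ1⟩ : ∃ μ : F, μ ≠ 0 ∧ μ ≠ 1 := by
    classical
    haveI : Fintype F := Fintype.ofFinite F
    by_contra hc
    push Not at hc
    have : Fintype.card F ≤ 2 :=
      (Finset.card_le_card (t := ({0, 1} : Finset F)) fun x _ => by
        by_cases hx : x = 0
        · simp [hx]
        · simp [hc x hx]).trans Finset.card_le_two
    rw [Nat.card_eq_fintype_card] at h3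
    omega
  by_cases hUT : (U : M2 F).trace = T
  · have hd : (μ • (U : M2 F)).det ≠ 0 := by
      rw [det_smul]
      exact mul_ne_zero (pow_ne_zero _ hμ0) U.det.ne_zero
    obtain ⟨y, c, hy, hc, e⟩ := exists_pair_aux h (GeneralLinearGroup.mkOfDetNeZero _ hd) (by
      show (μ • (U : M2 F)).trace ≠ T
      rw [trace_smul, hUT, smul_eq_mul]
      exact fun h' => hμ1 (mul_right_cancel₀ h.hT (h'.trans (one_mul T).symm)))
    refine ⟨y, c, hy, hc, ?_⟩
    have e' : ((c : M2 F) * ((y⁻¹ : GL (Fin 2) F) : M2 F) * (μ • (U : M2 F))).trace = 0 := e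
    rwa [mul_smul_comm, trace_smul, smul_eq_mul, mul_eq_zero, or_iff_right hμ0] at e'
  · exact exists_pair_aux h U hUT

end Cfsg.Agent.PSp4Cover56
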